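import Cfsg.Agent.Lib.KInf.QdFailure

/-!
# Families of functors: freeness from `Qd(p)` as control of strong fusion

In `Qd(p)` every value of an isomorphism invariant functor at a Sylow subgroup has the normaliser of that
Sylow subgroup, so that no set of such functors controls strong fusion.
-/

set_option autoImplicit false
set_option linter.unusedSectionVars false

namespace CfsgLib.QdFamily

open Cfsg Subgroup CfsgLib.Techniques CfsgLib.PLocal CfsgLib.KInf

universe u

variable {p : ℕ} [Fact p.Prime] {Q : Type u} [Group Q] [Finite Q]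

theorem normalizer_value {W : ∀ (R : Type u) [Group R], Subgroup R} (hW : IsCharPFunctor.{u} p W)
    (e : Q ≃* ↥(qd p)) (T : Sylow p Q) :
    normalizer (inducedFunctor (G := Q) W (T : Subgroup Q) : Set Q) =
      normalizer ((T : Subgroup Q) : Set Q) := by
  let f : Q ≃* ↥(qdOver (ZMod p)) := e
  set P := (Affine.block.comp f.toMonoidHom).ker with hP
  have hPp : IsPGroup p P :=
    ((Affine.isPGroup_ker (F := ZMod p) (p := p)).comap_of_injective f.toMonoidHom f.injective)
  have hPT : ∀ S : Sylow p Q, P ≤ (S : Subgroup Q) := fun S => hPp.le_sylow_of_normal S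
  have hCP : centralizer (P : Set Q) ≤ P := by
    intro x hx
    refine qd_selfCentralizing (mem_centralizer_iff.2 fun a ha => ?_)
    have h := mem_centralizer_iff.1 hx (f.symm a) (by
      show Affine.block (f (f.symm a)) = 1
      rw [f.apply_symm_apply]; exact ha)
    have h' := congrArg f h
    rwa [map_mul, map_mul, f.apply_symm_apply] at h'
  -- the normalizer of the functor's value
  let S : Sylow p ↥(qdOver (ZMod p)) := T.mapSurjective (f := f.toMonoidHom) f.surjective
  let ψ : ↥(T : Subgroup Q) ≃* ↥(S : Subgroup ↥(qdOver (ZMod p))) :=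
    (T : Subgroup Q).equivMapOfInjective f.toMonoidHom f.injective
  have hTne : Nontrivial ↥(T : Subgroup Q) := by
    rw [nontrivial_iff_ne_bot]
    intro hb
    have hb' : P = ⊥ := le_bot_iff.1 ((hPT T).trans hb.le)
    rw [hb'] at hCP
    have h1 : ∀ x : Q, x = 1 := fun x => mem_bot.1 (hCP (mem_centralizer_iff.2 fun a ha => by
      rw [SetLike.mem_coe, mem_bot] at ha
      rw [ha, one_mul, mul_one]))
    have h2 : (Affine.elt (![1, 0] : Fin 2 → ZMod p) 1) = 1 := by
      rw [← f.apply_symm_apply (Affine.elt _ 1), h1 (f.symm _), map_one]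
    rw [← Affine.elt_one] at h2
    simpa using congrFun (Affine.elt_injective h2).1 0
  haveI hWc : (W ↥(T : Subgroup Q)).Characteristic :=
    Subgroup.characteristic_iff_map_eq.2 fun φ => hW.2 _ _ T.2 φ
  have hc' : ((W ↥(T : Subgroup Q)).map ψ.toMonoidHom).Characteristic := by
    refine Subgroup.characteristic_iff_map_eq.2 fun α => ?_
    have h := Subgroup.characteristic_iff_map_eq.1 hWc ((ψ.trans α).trans ψ.symm)
    conv_rhs => rw [← h]
    rw [Subgroup.map_map, Subgroup.map_map]
    congr 1
    ext x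
    simp
  have hne' : (W ↥(T : Subgroup Q)).map ψ.toMonoidHom ≠ ⊥ := by
    rw [Ne, map_eq_bot_iff_of_injective _ ψ.injective]
    exact hW.1 _ T.2 hTne
  obtain ⟨heq, hne⟩ := Affine.normalizer_characteristic_sylow S _ hne' hc'
  have hmap : (((W ↥(T : Subgroup Q)).map ψ.toMonoidHom).map
      (S : Subgroup ↥(qdOver (ZMod p))).subtype) =
      (inducedFunctor (G := Q) W (T : Subgroup Q)).map f.toMonoidHom := by
    rw [inducedFunctor, Subgroup.map_map, Subgroup.map_map]
    congr 1
  set V := inducedFunctor (G := Q) W (T : Subgroup Q)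
  have hNV : normalizer (V : Set Q) = normalizer ((T : Subgroup Q) : Set Q) := by
    apply Subgroup.map_injective (f := f.toMonoidHom) f.injective
    rw [hmap] at heq
    rw [map_equiv_normalizer_eq _ f, map_equiv_normalizer_eq _ f]
    exact heq
  exact hNV

theorem not_familyControls {𝓦 : Set (∀ (R : Type u) [Group R], Subgroup R)}
    (h𝓦 : ∀ W ∈ 𝓦, IsCharPFunctor.{u} p W) (e : Q ≃* ↥(qd p)) :
    ¬ FamilyControlsStrongFusionIn p ((fun W => inducedFunctor (G := Q) W) '' 𝓦) ⊤ := by
  rintro ⟨T₀, -, hT₀, hd, hfus⟩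
  let f : Q ≃* ↥(qdOver (ZMod p)) := e
  obtain ⟨T, hTT₀⟩ : ∃ T : Sylow p Q, (T : Subgroup Q) = T₀ :=
    ⟨hT₀.toSylow (by rwa [Subgroup.relIndex_top_right] at hd), rfl⟩
  subst hTT₀
  set P := (Affine.block.comp f.toMonoidHom).ker with hP
  have hPp : IsPGroup p P :=
    ((Affine.isPGroup_ker (F := ZMod p) (p := p)).comap_of_injective f.toMonoidHom f.injective)
  have hPT : P ≤ (T : Subgroup Q) := hPp.le_sylow_of_normal T
  have hCP : centralizer (P : Set Q) ≤ P := by
    intro x hx
    refine qd_selfCentralizing (mem_centralizer_iff.2 fun a ha => ?_)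
    have h := mem_centralizer_iff.1 hx (f.symm a) (by
      show Affine.block (f (f.symm a)) = 1
      rw [f.apply_symm_apply]; exact ha)
    have h' := congrArg f h
    rwa [map_mul, map_mul, f.apply_symm_apply] at h'
  have htop : normalizer ((T : Subgroup Q) : Set Q) = ⊤ := by
    refine top_le_iff.1 fun g _ => ?_
    obtain ⟨n, c, hc0, hst, -, hlast⟩ := hfus (P : Set Q) g (mem_top g) hPT (by
      rintro _ ⟨a, ha, rfl⟩
      exact hPT ((inferInstance : P.Normal).conj_mem a ha g))
    have hcN : ∀ i : Fin (n + 1), c i ∈ normalizer ((T : Subgroup Q) : Set Q) := by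
      intro i
      induction i using Fin.induction with
      | zero => rw [hc0]; exact one_mem _
      | succ i ih =>
        obtain ⟨_, ⟨W, hW, rfl⟩, hi⟩ := hst i
        have h := hi.2
        simp only at h
        rw [normalizer_value (h𝓦 W hW) e T] at h
        simpa using mul_mem h ih
    set x := c (Fin.last n) with hx
    have hc : x⁻¹ * g ∈ P := hCP (mem_centralizer_iff.2 fun a ha => by
      calc a * (x⁻¹ * g) = x⁻¹ * (x * a * x⁻¹) * g := by group
        _ = x⁻¹ * (g * a * g⁻¹) * g := by rw [hlast a ha]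
        _ = _ := by group)
    rw [← mul_inv_cancel_left x g]
    exact mul_mem (hcN _) (le_normalizer (hPT hc))
  let S : Sylow p ↥(qdOver (ZMod p)) := T.mapSurjective (f := f.toMonoidHom) f.surjective
  have hSne : (⊤ : Subgroup ↥(S : Subgroup ↥(qdOver (ZMod p)))) ≠ ⊥ := by
    intro hb
    have h2 : (S : Subgroup ↥(qdOver (ZMod p))) = ⊥ :=
      (Subgroup.eq_bot_iff_forall _).2 fun x hx => by
        have h3 : (⟨x, hx⟩ : ↥(S : Subgroup ↥(qdOver (ZMod p)))) ∈
            (⊥ : Subgroup ↥(S : Subgroup ↥(qdOver (ZMod p)))) := hb ▸ mem_top _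
        exact congrArg Subtype.val (mem_bot.1 h3)
    have h5 : (Affine.elt (![1, 0] : Fin 2 → ZMod p) 1) ∈ (S : Subgroup ↥(qdOver (ZMod p))) :=
      (Affine.isPGroup_ker (F := ZMod p) (p := p)).le_sylow_of_normal S (Affine.mem_ker_iff.2 ⟨_, rfl⟩)
    rw [h2, mem_bot, ← Affine.elt_one] at h5
    simpa using congrFun (Affine.elt_injective h5).1 0
  obtain ⟨-, hne⟩ := Affine.normalizer_characteristic_sylow S ⊤ hSne inferInstance
  refine hne ?_
  have h := congrArg (Subgroup.map f.toMonoidHom) htop
  rw [map_equiv_normalizer_eq _ f, Subgroup.map_top_of_surjective _ f.surjective] at h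
  exact h

/-- For odd `p` one functor suffices. -/
theorem exists_family_of_free_odd {G : Type u} [Group G] [Finite G] (hp : p ≠ 2)
    (hno : ¬ Involves ↥(qd p) G) :
    ∀ (K R : Subgroup G) [_hR : (R.subgroupOf K).Normal],
      FamilyControlsStrongFusionIn p ((fun W => inducedFunctor (G := (↥K ⧸ R.subgroupOf K)) W) ''
        ({kInfLower.{u}} : Set (∀ (R : Type u) [Group R], Subgroup R))) ⊤ := by
  intro K R hR
  have hW := isCharPFunctor_kInfLower.{u} p
  have h𝓦 : ∀ V ∈ ({kInfLower.{u}} : Set (∀ (R : Type u) [Group R], Subgroup R)),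
      IsCharPFunctor.{u} p V := fun V hV => by rw [Set.mem_singleton_iff] at hV; subst hV; exact hW
  have hst : SectionsSatisfy (↥K ⧸ R.subgroupOf K) fun Y _ => IsNormalizerPStable p Y := by
    refine sectionsStable fun K' R' hR' => isNormalizerPStable_of_not_invHom hp fun h => hno ?_
    exact (((InvHom.of_surjective _ (QuotientGroup.mk'_surjective _) h).of_subgroup).of_surjective _
      (QuotientGroup.mk'_surjective _)).of_subgroup.involves
  exact familyFusion_of_sections h𝓦 _ ((kInf_normal_of_stable hst).imp fun Y _ _ hY _ _ hc => by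
    obtain ⟨T⟩ := (inferInstance : Nonempty (Sylow p Y))
    exact familyFusion_of_normal (sylIn_top T) (hY hc T).1)

/-- Sets of isomorphism invariant functors control strong fusion in all sections exactly for `Qd(p)`-free
groups, given this for `S₄`-free groups at the prime two. -/
theorem qdFree_iff_family {G : Type u} [Group G] [Finite G]
    (htwo : ∀ (X : Type u) [Group X] [Finite X], ¬ Involves (Equiv.Perm (Fin 4)) X →
      ∃ 𝓦 : Set (∀ (R : Type u) [Group R], Subgroup R), (∀ W ∈ 𝓦, IsCharPFunctor.{u} 2 W) ∧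
        ∀ (K R : Subgroup X) [_hR : (R.subgroupOf K).Normal],
          FamilyControlsStrongFusionIn 2 ((fun W => inducedFunctor (G := (↥K ⧸ R.subgroupOf K)) W) '' 𝓦) ⊤) :
    ¬ Involves ↥(qd p) G ↔ ∃ 𝓦 : Set (∀ (R : Type u) [Group R], Subgroup R),
      (∀ W ∈ 𝓦, IsCharPFunctor.{u} p W) ∧ ∀ (K R : Subgroup G) [_hR : (R.subgroupOf K).Normal],
        FamilyControlsStrongFusionIn p ((fun W => inducedFunctor (G := (↥K ⧸ R.subgroupOf K)) W) '' 𝓦) ⊤ := by
  constructor
  · intro hno
    by_cases hp : p = 2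
    · subst hp
      refine htwo G fun ⟨K, R, hR, ⟨e⟩⟩ => hno ⟨K, R, hR, ?_⟩
      obtain ⟨ε⟩ := Affine.qd_two_equiv
      exact ⟨e.trans ε.symm⟩
    · exact ⟨{kInfLower.{u}}, fun V hV => by
        rw [Set.mem_singleton_iff] at hV; subst hV; exact isCharPFunctor_kInfLower.{u} p,
        exists_family_of_free_odd hp hno⟩
  · rintro ⟨𝓦, h𝓦, h⟩ ⟨K, R, hR, ⟨e⟩⟩
    haveI := hR
    exact not_familyControls h𝓦 e (h K R)

end CfsgLib.QdFamily
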