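import Cfsg.Agent.Lib.QdFamily.Basic
import Cfsg.Agent.Lib.CharTransfer.WFun
import Cfsg.Agent.Lib.LocalEven.Factor.StronglyClosed

/-!
# The `Qd(p)` criterion from the pair centre, Thompson subgroup at the prime two
-/

set_option autoImplicit false

namespace CfsgLib.QdFamily

open Cfsg Subgroup

universe u

/-- `Qd(p)`-free groups, given that centre and Thompson subgroup control strong fusion in all sections
of `S₄`-free groups. -/
theorem qdFree_iff_family_of_pair
    (hfwd : ∀ (X : Type u) [Group X] [Finite X], ¬ Involves (Equiv.Perm (Fin 4)) X →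
      ∀ (K R : Subgroup X) [hR : (R.subgroupOf K).Normal], FamilyControlsStrongFusionIn 2
        ({fun P : Subgroup (↥K ⧸ R.subgroupOf K) =>
            P ⊓ Subgroup.centralizer ((P : Subgroup (↥K ⧸ R.subgroupOf K)) : Set (↥K ⧸ R.subgroupOf K)),
          fun P : Subgroup (↥K ⧸ R.subgroupOf K) => thompsonSubgroupOf 2 P} :
            Set (Subgroup (↥K ⧸ R.subgroupOf K) → Subgroup (↥K ⧸ R.subgroupOf K))) ⊤)
    {G : Type u} [Group G] [Finite G] {p : ℕ} [Fact p.Prime] :
    ¬ Involves ↥(qd p) G ↔ ∃ 𝓦 : Set (∀ (R : Type u) [Group R], Subgroup R),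
      (∀ W ∈ 𝓦, IsCharPFunctor.{u} p W) ∧ ∀ (K R : Subgroup G) [_hR : (R.subgroupOf K).Normal],
        FamilyControlsStrongFusionIn p
          ((fun W => inducedFunctor (G := (↥K ⧸ R.subgroupOf K)) W) '' 𝓦) ⊤ := by
  refine qdFree_iff_family fun X _ _ hno => ?_
  haveI : Fact (Nat.Prime 2) := ⟨Nat.prime_two⟩
  refine ⟨{(fun Q [Group Q] => CfsgLib.CharTransfer.centerFun Q), CfsgLib.LocalEven.TwoFactor.funJ},
    ?_, fun K R hR => ?_⟩
  · rintro W (rfl | rfl)
    · exact CfsgLib.CharTransfer.centerFun_isCharP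
    · exact CfsgLib.LocalEven.TwoFactor.charFun_J
  · have h := hfwd X hno K R
    rw [Set.image_insert_eq, Set.image_singleton]
    have h1 : (inducedFunctor (G := ↥K ⧸ R.subgroupOf K) (fun Q [Group Q] => CfsgLib.CharTransfer.centerFun Q)) =
        fun P : Subgroup (↥K ⧸ R.subgroupOf K) => P ⊓ Subgroup.centralizer (P : Set (↥K ⧸ R.subgroupOf K)) :=
      funext fun P => CfsgLib.LocalEven.CD.map_center_eq_zOf P
    rw [h1]
    exact h

end CfsgLib.QdFamily
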